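import Cfsg.Agent.Lib.ToddCox.Glue
set_option autoImplicit false
set_option maxRecDepth 100000
namespace Cfsg.Agent.Lib.ToddCox.M11C1
def E_0 : ℕ := 0x40400000c00000c10000040000030c00000c00000c3000003000004080000100000102000004000004fc000020000023f000004000004fc000014000017f000004000003fc00001c00001ff000003000006fc00000c00000ff000006000008fc000014000017f000008000007fc00001800001bf00000700000ffc00001800001bf00000f00000afc000024000027f00000a000010fc000024000027f00001000000efc000030000033f00000e00001208000044000044200001200001204000044000044100001200000f0c00003c00003c300000f00000f0800003c00003c200000f00000f00000040000040000000f00001004000038000038100001000000e00000030000030000000e00000d00000034000034000000d00000c08000024000024200000c00000b0800002c00002c200000b00000a0c000020000020300000a0000090000001800001800000090000080400001800001810000080000070800001800001820000070000070c00001c00001c30000070000040000001000001000000040000030800000c00000c200000300000208000004000004200000200000100000004000004000000100000008000000000000200000000000004000000000000100000000000000000000000000000000000000d0c000048000048300000d00000c0c000044000044300000c00000b0c000040000040300000b00000b0400003c00003c100000b00000a08000038000038200000a00000a04000034000034100000a0000090400003000003010000090000080000002c00002c00000080000070000002800002800000070000050c00002400002430000050000040800002000002020000040000040400001c00001c10000040000030c00001800001830000030000030400001400001410000030000020c00001000001030000020000020000000c00000c00000020000010400000800000810000010000000c0000040000043000000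
end Cfsg.Agent.Lib.ToddCox.M11C1
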