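import Cfsg.Agent.Lib.ToddCox.M11C1.Data
set_option autoImplicit false
set_option maxRecDepth 100000
namespace Cfsg.Agent.Lib.ToddCox.M11C1
theorem wordsGood : allBelow (wordsOK W (relR Rb inv) inv sp) nW 5 = true := by decide +kernel
theorem d0 : allBits (fun k => bif Nat.blt k 18 then chkDef Eo inv k else true) 13 0 = true := by decide +kernel
def L0 : List ℕ := [nat_lit 0xc200005a00000980000340000bc00000900000700001700000b000001300002b000012c0000ae00000a00000900000e80000aa000010000008800004c0000aa000039000008000011c0000a6000039000008000006c0000a200003f00000780001140000a2000016000007000010c00004200004e000026800008000001a000022000020000008c00009a00000c00001100000600000760000370000050000024000022000017000010800002c00008e00001e00000e800012400000a000047000022800010c00002c00003e000021000011000008c00000a00000e000005000006e00003800000b800010800008800000700000f000005000007400001b000004800006800002400003500001c00000f8000010000018000009000003000006000000d000009800006400000e00001600001c80000d800002a00003c00000a00000dc00007000000600000a000003800006000000f00000a8000008000024000032000006000003c00000a00001000000400000b8000016000000000007000001800000a00000b000002000003000000c0000050000058000004000018000006000001000000000004e000001000001800001c00001a0000030000030000008000058000007000000000001000005a00002a00001600000140000040000020000000000094000002000001000000000009c0000520000010000007ffffffffffffffffff]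
theorem s0 : chkChunks Eo inv W isH 32 L0 18 = true := by decide +kernel
theorem c0 : Covered Eo inv W isH 18 50 := covered_of_chunks 32 L0 18 50 rfl s0
theorem s1 : chkStream Eo inv W isH 3 50 0x6100000400000580000b800000a00000a800018c00001c000014 = true := by decide +kernel
theorem c1 : Covered Eo inv W isH 50 53 := covered_of_stream 3 50 _ s1
theorem l0 : chkPoints Eo cF (2 * nEv) N ys 5 0 0x380000080000ca000004000034000000c000062000004000033800000c00005e000003000034800001000000a00000200000300000100000580000010000018000004000008000003000000800000000005a000002000001000000800005600000100000000000040000500000000000130000000000048000000 = true := by decide +kernel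
theorem k0 : LinksOK Eo cF (2 * nEv) N ys 0 5 := linksOK_of_points 5 0 _ l0
end Cfsg.Agent.Lib.ToddCox.M11C1
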